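import Groth.Agent.AVHomForm.Form
import Groth.Agent.S12029
import Groth.Agent.S19862
import Groth.Agent.TorsPtsLib.BC
import Groth.Prelude.Def_EndTate
import Mathlib.FieldTheory.IsAlgClosed.AlgebraicClosure
import Mathlib.LinearAlgebra.Dimension.Free
import Mathlib.LinearAlgebra.FreeModule.PID
import Mathlib.LinearAlgebra.FreeModule.Finite.Matrix

/-! The group of homomorphisms of two abelian varieties is free of rank at most `4gh`. -/

noncomputable section

set_option linter.style.haveILetI false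
set_option linter.unusedSectionVars false

universe u

open CategoryTheory MonoidalCategory CartesianMonoidalCategory MonObj GrpObj AlgebraicGeometry

namespace Groth.Agent.AVHomForm

open Groth.Agent

variable {k : Type u} [Field k] (Ω : Type u) [Field Ω] [Algebra k Ω] [IsAlgClosed Ω] (l : ℕ) [Fact l.Prime]
  {A B : Over (Spec (CommRingCat.of k))} [GrpObj A] [IsCommMonObj A] [IsProper A.hom] [GeometricallyIntegral A.hom]
  [GrpObj B] [IsCommMonObj B] [IsProper B.hom] [GeometricallyIntegral B.hom]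

local notation "pΩ" => (Over.mk (Spec.map (CommRingCat.ofHom (algebraMap k Ω))))

theorem tate_free (hl : (l : k) ≠ 0) (C : Over (Spec (CommRingCat.of k))) [GrpObj C] [IsCommMonObj C]
    [IsProper C.hom] [GeometricallyIntegral C.hom] {g : ℕ} (hg : topologicalKrullDim C.left = g) :
    Module.Free ℤ_[l] (AbDual.TateMod C l pΩ) ∧ Module.Finite ℤ_[l] (AbDual.TateMod C l pΩ) ∧
      Module.finrank ℤ_[l] (AbDual.TateMod C l pΩ) = 2 * g := by
  have hlΩ : (l : Ω) ≠ 0 := by
    rw [← map_natCast (algebraMap k Ω)]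
    exact (map_ne_zero _).mpr hl
  exact ((TorsPtsLib.geom_points (Spec.map (CommRingCat.ofHom (algebraMap k Ω))) C hg).2.2 l hlΩ)

/-- `φ ↦ (0, T_l φ)` on `T_l A × T_l B`. -/
def endRep : EndAV.Hom A B →+ Module.End ℤ_[l] (AbDual.TateMod A l pΩ × AbDual.TateMod B l pΩ) where
  toFun φ := LinearMap.inr ℤ_[l] _ _ ∘ₗ EndAV.Hom.tateMap l pΩ φ ∘ₗ LinearMap.fst ℤ_[l] _ _
  map_zero' := by rw [map_zero]; simp
  map_add' φ ψ := by rw [map_add, LinearMap.add_comp, LinearMap.comp_add]

theorem endRep_div (hl : (l : k) ≠ 0) (β : EndAV.Hom A B) (n : ℕ)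
    (h : ∀ v, ∃ w, endRep Ω l β v = ((l : ℤ_[l]) ^ n) • w) : ∃ β₁ : EndAV.Hom A B, β = (l ^ n) • β₁ := by
  obtain ⟨gB, hgB⟩ := TorsPtsLib.exists_dim B
  obtain ⟨hfree, -, -⟩ := tate_free Ω l hl B hgB
  haveI := hfree
  have hex : ∀ a, ∃ w : AbDual.TateMod B l pΩ, EndAV.Hom.tateMap l pΩ β a = ((l : ℤ_[l]) ^ n) • w := fun a => by
    obtain ⟨w, hw⟩ := h (a, 0)
    exact ⟨w.2, congrArg Prod.snd hw⟩
  choose w hw using hex
  have hne : ((l : ℤ_[l]) ^ n) ≠ 0 := pow_ne_zero _ (Nat.cast_ne_zero.2 (Fact.out : l.Prime).ne_zero)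
  have hinj : Function.Injective fun x : AbDual.TateMod B l pΩ => ((l : ℤ_[l]) ^ n) • x := smul_right_injective _ hne
  let u : AbDual.TateMod A l pΩ →ₗ[ℤ_[l]] AbDual.TateMod B l pΩ :=
    { toFun := w
      map_add' := fun a b => hinj (by
        show _ • w (a + b) = _ • (w a + w b)
        rw [smul_add, ← hw, ← hw, ← hw, map_add])
      map_smul' := fun c a => hinj (by
        show _ • w (c • a) = _ • (c • w a)
        rw [smul_comm _ c, ← hw, ← hw, map_smul]) }
  obtain ⟨φ', hφ', he⟩ := S19862.result k Ω l hl A B β.toHom n u (LinearMap.ext hw)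
  exact ⟨EndAV.Hom.of φ', EndAV.Hom.ext (by
    rw [EndAV.Hom.toHom_nsmul, EndAV.Hom.toHom_of, he, MonObj.pow_comp, Category.id_comp])⟩

include Ω in
theorem linearIndependent_tateMap (hl : (l : k) ≠ 0) {σ : Type*} (a : σ → EndAV.Hom A B)
    (ha : LinearIndependent ℤ a) : LinearIndependent ℤ_[l] fun i => EndAV.Hom.tateMap l pΩ (a i) := by
  obtain ⟨b, hbs, hbp⟩ := exists_posDef_form (A := A) (B := B)
  have h := S12028.result l (EndAV.Hom A B) b hbs hbp _ (endRep Ω l) (endRep_div Ω l hl) σ a ha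
  exact LinearIndependent.of_comp
    ((LinearMap.llcomp ℤ_[l] _ _ _ (LinearMap.inr ℤ_[l] (AbDual.TateMod A l pΩ) (AbDual.TateMod B l pΩ))).comp
      ((LinearMap.llcomp ℤ_[l] _ _ _).flip (LinearMap.fst ℤ_[l] (AbDual.TateMod A l pΩ) (AbDual.TateMod B l pΩ)))) h

include Ω l in
theorem moduleFinite_of_prime (hl : (l : k) ≠ 0) : Module.Finite ℤ (EndAV.Hom A B) := by
  obtain ⟨b, hbs, hbp⟩ := exists_posDef_form (A := A) (B := B)
  obtain ⟨gA, hgA⟩ := TorsPtsLib.exists_dim A
  obtain ⟨gB, hgB⟩ := TorsPtsLib.exists_dim B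
  haveI := (tate_free Ω l hl A hgA).2.1
  haveI := (tate_free Ω l hl B hgB).2.1
  exact S12029.result l (EndAV.Hom A B) b hbs hbp _ (endRep Ω l) (endRep_div Ω l hl)

include Ω l in
theorem card_le_of_linearIndependent (hl : (l : k) ≠ 0) {g h : ℕ} (hg : topologicalKrullDim A.left = g)
    (hh : topologicalKrullDim B.left = h) {n : ℕ} (a : Fin n → EndAV.Hom A B) (ha : LinearIndependent ℤ a) :
    n ≤ 4 * g * h := by
  obtain ⟨hAf, hAg, hAr⟩ := tate_free Ω l hl A hg
  obtain ⟨hBf, hBg, hBr⟩ := tate_free Ω l hl B hh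
  haveI := hAf; haveI := hAg; haveI := hBf; haveI := hBg
  have hc := (linearIndependent_tateMap Ω l hl a ha).fintype_card_le_finrank
  rw [Fintype.card_fin, Module.finrank_linearMap, hAr, hBr] at hc
  exact hc.trans_eq (by ring)

omit [IsCommMonObj A] [IsCommMonObj B] in
theorem exists_prime_ne_zero : ∃ l : ℕ, Fact l.Prime ∧ (l : k) ≠ 0 := by
  by_cases h2 : ((2 : ℕ) : k) = 0
  · refine ⟨3, ⟨Nat.prime_three⟩, fun h3 => one_ne_zero (α := k) ?_⟩
    have : ((3 : ℕ) : k) - ((2 : ℕ) : k) = 1 := by norm_num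
    rw [← this, h2, h3, sub_zero]
  · exact ⟨2, ⟨Nat.prime_two⟩, h2⟩

theorem moduleFinite_hom : Module.Finite ℤ (EndAV.Hom A B) := by
  obtain ⟨l, hp, hl⟩ := exists_prime_ne_zero (k := k)
  exact moduleFinite_of_prime (AlgebraicClosure k) l hl

theorem noZeroSMulDivisors_hom : NoZeroSMulDivisors ℤ (EndAV.Hom A B) := by
  obtain ⟨b, hbs, hbp⟩ := exists_posDef_form (A := A) (B := B)
  refine ⟨fun {c x} h => ?_⟩
  by_contra hcon
  push Not at hcon
  have h1 := congrArg (fun y => b y x) h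
  simp only [map_zsmul, map_zero, AddMonoidHom.zero_apply, AddMonoidHom.coe_smul, Pi.smul_apply, smul_eq_mul] at h1
  exact (mul_ne_zero hcon.1 (hbp x hcon.2).ne') h1

theorem moduleFree_hom : Module.Free ℤ (EndAV.Hom A B) := by
  haveI := moduleFinite_hom (A := A) (B := B)
  haveI := noZeroSMulDivisors_hom (A := A) (B := B)
  exact Module.free_of_finite_type_torsion_free'

theorem finrank_hom_le {g h : ℕ} (hg : topologicalKrullDim A.left = g) (hh : topologicalKrullDim B.left = h) :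
    Module.finrank ℤ (EndAV.Hom A B) ≤ 4 * g * h := by
  obtain ⟨l, hp, hl⟩ := exists_prime_ne_zero (k := k)
  haveI := moduleFinite_hom (A := A) (B := B)
  haveI := moduleFree_hom (A := A) (B := B)
  exact card_le_of_linearIndependent (AlgebraicClosure k) l hl hg hh _
    (Module.finBasis ℤ (EndAV.Hom A B)).linearIndependent

/-- Conversion of independence of homomorphisms. -/
theorem linearIndependent_of {n : ℕ} (e : Fin n → (A ⟶ B)) [∀ i, IsMonHom (e i)]
    (he : LinearIndependent ℤ fun i => Additive.ofMul (e i)) :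
    LinearIndependent ℤ fun i => EndAV.Hom.of (e i) := by
  let j : EndAV.Hom A B →+ Additive (A ⟶ B) :=
    { toFun := fun φ => Additive.ofMul φ.toHom, map_zero' := rfl, map_add' := fun _ _ => rfl }
  exact LinearIndependent.of_comp j.toIntLinearMap he

end Groth.Agent.AVHomForm
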