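import Groth.Agent.AVHomForm.Deg
import Groth.Agent.AVDegPoly.Main
import Groth.Agent.H23.RedSub
import Groth.Agent.TorsPtsLib.BC
import Groth.Prelude.Def_EndRing

/-! A positive definite integral form on the homomorphisms of two abelian varieties. -/

noncomputable section

set_option linter.style.haveILetI false
set_option linter.unusedSectionVars false
set_option backward.isDefEq.respectTransparency false
set_option backward.isDefEq.respectTransparency.types false

universe u

open CategoryTheory CategoryTheory.Limits MonoidalCategory CartesianMonoidalCategory MonObj GrpObj AlgebraicGeometry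
  TopologicalSpace

namespace Groth.Agent.AVHomForm

open Groth.Agent Groth.Agent.H23 Groth.Agent.AVCube
open scoped Groth.Agent.H23.PicMul

variable {k : Type u} [Field k] {A B : Over (Spec (CommRingCat.of k))}
  [GrpObj A] [IsProper A.hom] [GeometricallyIntegral A.hom]
  [GrpObj B] [IsProper B.hom] [GeometricallyIntegral B.hom]

/-- A homomorphism sending the generic point to the origin is trivial. -/
theorem eq_one_of_map_genericPoint [IsIntegral A.left] (f : A ⟶ B)
    (h : f.left (genericPoint A.left) = η[B].left (IsLocalRing.closedPoint k)) : f = 1 := by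
  let j : Spec (CommRingCat.of k) ⟶ B.left := η[B].left
  have hj : j ≫ B.hom = 𝟙 _ := Over.w η[B]
  haveI : IsClosedImmersion (j ≫ B.hom) := by rw [hj]; infer_instance
  haveI : IsClosedImmersion j := IsClosedImmersion.of_comp j B.hom
  have hr : Set.range f.left ⊆ Set.range j := by
    refine subset_trans ?_ (closure_minimal (Set.singleton_subset_iff.2 ⟨IsLocalRing.closedPoint k, rfl⟩)
      j.isClosedEmbedding.isClosed_range)
    rintro _ ⟨a, rfl⟩
    exact specializes_iff_mem_closure.1 (((genericPoint_specializes a).map f.left.continuous).trans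
      (specializes_of_eq rfl) |> fun hs => by rwa [h] at hs)
  obtain ⟨u, hu⟩ := H23.RedSub.exists_lift_closed f.left j hr
  have hua : u = A.hom := by
    rw [← Category.comp_id u, ← hj, ← Category.assoc, hu]
    exact Over.w f
  subst hua
  exact Over.OverMorphism.ext hu.symm

variable [IsCommMonObj B]

theorem e_tensorPow (k : Type u) [Field k] {X : Scheme.{u}} [X.Over (Spec (CommRingCat.of k))]
    [IsProper (X ↘ Spec (CommRingCat.of k))] [IsIntegral X] {M : X.Modules} (hM : PicF.IsInvertible M) {d : ℕ}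
    (hX : topologicalKrullDim X = ((d + 1 : ℕ) : WithBot ℕ∞)) {N : X.Modules} (hN : PicF.IsInvertible N) :
    ∀ (n : ℕ) (P : X.Modules), PicF.cl P = PicF.cl N ^ n → e k d M P = n * e k d M N
  | 0, P, h => by
    rw [e_congr k hM (h.trans (pow_zero _) : PicF.cl P = PicF.cl (Coh.structureModule X)), e_one k hM hX]
    simp
  | n + 1, P, h => by
    rw [e_mul k hM hX (InvX.isInvertible_tensorPow hN n) hN (P := P) (by rw [PicMul.cl_tensorPow, h, pow_succ]),
      e_tensorPow k hM hX hN n _ (PicMul.cl_tensorPow _ _)]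
    push_cast
    ring

/-- A positive definite symmetric biadditive integral form on `Hom (A, B)`, multiplied by `Q` on composing
with an endomorphism of `B` that pulls every invertible class back to its `Q`-th power. -/
theorem exists_posDef_form_scaling [IsCommMonObj A] :
    ∃ b : EndAV.Hom A B →+ EndAV.Hom A B →+ ℤ, (∀ u v, b u v = b v u) ∧ (∀ u, u ≠ 0 → 0 < b u u) ∧
      ∀ (ρ : EndAV.Hom B B) (Q : ℕ),
        (∀ N : B.left.Modules, PicF.IsInvertible N → PicF.pullCl ρ.toHom.left (PicF.cl N) = PicF.cl N ^ Q) →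
          ∀ u v, b (u ≫ ρ) (v ≫ ρ) = Q * b u v := by
  letI : A.left.Over (Spec (CommRingCat.of k)) := ⟨A.hom⟩
  letI : B.left.Over (Spec (CommRingCat.of k)) := ⟨B.hom⟩
  haveI : IsProper (A.left ↘ Spec (CommRingCat.of k)) := ‹IsProper A.hom›
  haveI : IsProper (B.left ↘ Spec (CommRingCat.of k)) := ‹IsProper B.hom›
  haveI : IsIntegral A.left := GeometricallyIntegral.isIntegral_of_subsingleton A.hom
  haveI := CurveCohLib.isNoetherian_of_proper (k := k) (X := B.left)
  haveI : B.left.IsSeparated := ⟨by rw [← terminal.comp_from B.hom]; infer_instance⟩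
  have heA : ∀ f : A ⟶ B, IsMonHom f →
      f.left (η[A].left (IsLocalRing.closedPoint k)) = η[B].left (IsLocalRing.closedPoint k) := fun f _ => by
    rw [← IsMonHom.one_hom (f := f)]
    rfl
  obtain ⟨g, hg⟩ := TorsPtsLib.exists_dim A
  rcases g with _ | d
  · have hall : ∀ u : EndAV.Hom A B, u = 0 := fun u => EndAV.Hom.ext (eq_one_of_map_genericPoint _ (by
      have hs : η[A].left (IsLocalRing.closedPoint k) = genericPoint A.left := by
        by_contra hne
        have h1 := VarDim.deg_strictMono A.hom (lt_iff_le_not_ge.2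
          ⟨genericPoint_specializes (η[A].left (IsLocalRing.closedPoint k)),
            fun h => hne (Specializes.antisymm h (genericPoint_specializes _)).eq⟩)
        have h2 := (VarDim.topologicalKrullDim_eq_deg_genericPoint A.hom).symm.trans hg
        have h3 : VarDim.deg A.hom (genericPoint A.left) = 0 := by exact_mod_cast h2
        omega
      rw [← hs]
      exact heA _ inferInstance))
    exact ⟨0, fun _ _ => rfl, fun u hu => absurd (hall u) hu, fun _ _ _ _ _ => by simp⟩
  obtain ⟨M, hM, -⟩ := S8121.result k A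
  obtain ⟨L, hL, hs⟩ := S8121.result k B
  have hsym : pc hL.1 ((𝟙 B)⁻¹ : B ⟶ B) = pc hL.1 (𝟙 B) := by
    ext
    rw [val_pc_id, val_pc]
    exact ((PicGrp.cl_eq_cl_iff _ _).2 hs).symm
  let P : (A ⟶ B) → A.left.Modules := fun f => (Scheme.Modules.pullback f.left).obj L
  have hP : ∀ f, PicF.IsInvertible (P f) := fun f => PicClLib.isInvertible_pullback f.left hL.1
  let q : (A ⟶ B) → ℤ := fun f => e k d M (P f)
  have hmul : ∀ {N N' : A.left.Modules}, PicF.IsInvertible N → PicF.IsInvertible N' →
      e k d M (CohB1.tensorMod N N') = e k d M N + e k d M N' := fun hN hN' => e_mul k hM.1 hg hN hN' rfl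
  have hcube : ∀ u v w, q (u * v * w) + q u + q v + q w = q (u * v) + q (u * w) + q (v * w) := fun u v w => by
    have h := congrArg Units.val (cube_rel hL.1 u v w)
    simp only [Units.val_mul, val_pc] at h
    have i1 := hP (u * v * w); have i2 := hP u; have i3 := hP v; have i4 := hP w
    have j1 := hP (u * v); have j2 := hP (u * w); have j3 := hP (v * w)
    have := e_congr k hM.1 (d := d) (N := CohB1.tensorMod (CohB1.tensorMod (CohB1.tensorMod (P (u * v * w)) (P u)) (P v)) (P w))
      (N' := CohB1.tensorMod (CohB1.tensorMod (P (u * v)) (P (u * w))) (P (v * w))) h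
    rwa [hmul (PicMul.isInvertible_tensor (PicMul.isInvertible_tensor i1 i2) i3) i4,
      hmul (PicMul.isInvertible_tensor i1 i2) i3, hmul i1 i2, hmul (PicMul.isInvertible_tensor j1 j2) j3,
      hmul j1 j2] at this
  have hone : q 1 = 0 := (e_congr k hM.1 (congrArg Units.val (pc_one hL.1 A) :
    PicF.cl (P 1) = PicF.cl (Coh.structureModule A.left))).trans (e_one k hM.1 hg)
  have hinv : ∀ u, q u⁻¹ = q u := fun u => by
    refine e_congr k hM.1 ?_
    have h : pc hL.1 u⁻¹ = pc hL.1 u := by
      conv_rhs => rw [← Category.comp_id u]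
      rw [show u⁻¹ = u ≫ (𝟙 B)⁻¹ by rw [GrpObj.comp_inv, Category.comp_id], ← pull_pc, hsym, pull_pc]
    exact congrArg Units.val h
  let b : (A ⟶ B) → (A ⟶ B) → ℤ := fun u v => q (u * v) - q u - q v
  have hbl : ∀ u v w, b (u * v) w = b u w + b v w := fun u v w => by
    simp only [b]; linarith [hcube u v w]
  have hbs : ∀ u v, b u v = b v u := fun u v => by simp only [b, mul_comm u v]; ring
  let bil : EndAV.Hom A B →+ EndAV.Hom A B →+ ℤ := AddMonoidHom.mk'
    (fun u => AddMonoidHom.mk' (fun v => b u.toHom v.toHom) fun v w => by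
      show b u.toHom (v.toHom * w.toHom) = _
      rw [hbs _ (v.toHom * w.toHom), hbl, hbs v.toHom, hbs w.toHom])
    fun u v => AddMonoidHom.ext fun w => hbl u.toHom v.toHom w.toHom
  refine ⟨bil, fun u v => hbs _ _, fun u hu => ?_, fun ρ Q hρ => ?_⟩
  swap
  · have hq : ∀ f : A ⟶ B, q (f ≫ ρ.toHom) = Q * q f := fun f => e_tensorPow k hM.1 hg (hP f) Q _ (by
      show PicF.pullCl (f ≫ ρ.toHom).left (PicF.cl L) = PicF.pullCl f.left (PicF.cl L) ^ Q
      rw [Over.comp_left, ← PicClLib.pullCl_comp, hρ L hL.1, PicMul.pullCl_pow])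
    intro u v
    show q (EndAV.Hom.toHom (u ≫ ρ) * EndAV.Hom.toHom (v ≫ ρ)) - q (EndAV.Hom.toHom (u ≫ ρ)) -
        q (EndAV.Hom.toHom (v ≫ ρ)) =
      Q * (q (EndAV.Hom.toHom u * EndAV.Hom.toHom v) - q (EndAV.Hom.toHom u) - q (EndAV.Hom.toHom v))
    rw [EndAV.Hom.toHom_comp, EndAV.Hom.toHom_comp, ← MonObj.mul_comp, hq, hq, hq]
    ring
  have hbuu : bil u u = 2 * q u.toHom := by
    have h1 : bil u (-u) = -bil u u := map_neg (bil u) u
    change b u.toHom u.toHom⁻¹ = -bil u u at h1
    simp only [b, mul_inv_cancel, hone, hinv] at h1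
    linarith
  rw [hbuu]
  refine mul_pos two_pos ?_
  let f := u.toHom
  let ξ := f.left (genericPoint A.left)
  let e₀ := η[B].left (IsLocalRing.closedPoint k)
  have hξ : ξ ≠ e₀ := fun h => hu (EndAV.Hom.ext (eq_one_of_map_genericPoint f h))
  have he₀ : IsClosed ({e₀} : Set B.left) := by
    let j : Spec (CommRingCat.of k) ⟶ B.left := η[B].left
    have hj : j ≫ B.hom = 𝟙 _ := Over.w η[B]
    haveI : IsClosedImmersion (j ≫ B.hom) := by rw [hj]; infer_instance
    haveI : IsClosedImmersion j := IsClosedImmersion.of_comp j B.hom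
    haveI : Subsingleton ↥(Spec (CommRingCat.of k)) := inferInstanceAs (Subsingleton (PrimeSpectrum k))
    have hr : Set.range j = {e₀} := Set.eq_singleton_iff_unique_mem.2
      ⟨⟨_, rfl⟩, fun y ⟨x, hx⟩ => hx ▸ congrArg j (Subsingleton.elim x (IsLocalRing.closedPoint k))⟩
    exact hr ▸ j.isClosedEmbedding.isClosed_range
  let U : B.left.Opens := ⟨{e₀}ᶜ, he₀.isOpen_compl⟩
  obtain ⟨n, s, hsξ, hsU, -⟩ := AmpleX.exists_finite_nhd hL (Set.finite_singleton ξ) (U := U)
    (Set.singleton_subset_iff.2 hξ)
  obtain ⟨i⟩ := PicClLib.nonempty_pullback_structureModule f.left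
  let N := (Scheme.Modules.pullback f.left).obj (CohB1.tensorPow L (n + 1))
  have hloc := InvX.genLocus_pullback (u := f.left) (InvX.isInvertible_tensorPow hL.1 (n + 1)) s i.symm
  have hpos : 0 < e k d M N := by
    refine e_pos k hM hg (PicClLib.isInvertible_pullback f.left (InvX.isInvertible_tensorPow hL.1 (n + 1)))
      (i.inv ≫ (Scheme.Modules.pullback f.left).map s) ?_ (x := η[A].left (IsLocalRing.closedPoint k)) ?_
    · exact (congrArg (fun V : A.left.Opens => genericPoint A.left ∈ V) hloc).mpr (hsξ rfl)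
    · intro h
      have h' : f.left (η[A].left (IsLocalRing.closedPoint k)) ∈ (U : Set B.left) :=
        hsU ((congrArg (fun V : A.left.Opens => η[A].left (IsLocalRing.closedPoint k) ∈ V) hloc).mp h)
      exact h' (heA f inferInstance)
  rw [e_tensorPow k hM.1 hg (hP f) (n + 1) N (by
    show PicF.pullCl f.left (PicF.cl (CohB1.tensorPow L (n + 1))) = PicF.pullCl f.left (PicF.cl L) ^ (n + 1)
    rw [PicMul.cl_tensorPow, PicMul.pullCl_pow])] at hpos
  exact pos_of_mul_pos_right hpos (by positivity)

/-- A positive definite symmetric biadditive integral form on `Hom (A, B)`. -/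
theorem exists_posDef_form [IsCommMonObj A] :
    ∃ b : EndAV.Hom A B →+ EndAV.Hom A B →+ ℤ, (∀ u v, b u v = b v u) ∧ ∀ u, u ≠ 0 → 0 < b u u := by
  obtain ⟨b, h1, h2, -⟩ := exists_posDef_form_scaling (A := A) (B := B)
  exact ⟨b, h1, h2⟩

end Groth.Agent.AVHomForm
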