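import Groth.Agent.AVDegPoly.Zero
import Groth.Agent.VarDim.Top
import Groth.Agent.VarDim.Local
import Groth.Agent.H23.PicMul
import Groth.Agent.CohGabLib.SerreSupp
import Mathlib.RingTheory.Ideal.KrullsHeightTheorem

/-! Intersecting a class with the top power but one of an ample class. -/

noncomputable section

set_option linter.style.haveILetI false
set_option linter.unusedSectionVars false
set_option backward.isDefEq.respectTransparency false
set_option backward.isDefEq.respectTransparency.types false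

universe u

open CategoryTheory CategoryTheory.Limits AlgebraicGeometry TopologicalSpace

attribute [local instance] HasDerivedCategory.standard

namespace Groth.Agent.AVHomForm

open Groth.Agent Groth.Agent.HilbPoly Groth.Agent.H23
open scoped Groth.Agent.H23.PicMul

variable (k : Type u) [Field k] {X : Scheme.{u}} [X.Over (Spec (CommRingCat.of k))]
  [IsProper (X ↘ Spec (CommRingCat.of k))]

/-- A point generic in the zero locus of a section has codimension at most one. -/
theorem deg_le_succ [IsIntegral X] {N : X.Modules} (hN : PicF.IsInvertible N) (t : Coh.structureModule X ⟶ N)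
    {ξ : X} (hξ : ξ ∉ CohB1.genLocus N t) (hmax : ∀ η, η ⤳ ξ → η ∉ CohB1.genLocus N t → η = ξ) :
    VarDim.deg (X ↘ Spec (CommRingCat.of k)) (genericPoint X) ≤ VarDim.deg (X ↘ Spec (CommRingCat.of k)) ξ + 1 := by
  haveI := CurveCohLib.isNoetherian_of_proper (k := k) (X := X)
  obtain ⟨b, hb, -, hle⟩ := VarDim.exists_deg_add_stalk (X ↘ Spec (CommRingCat.of k)) ξ
  refine (hle _ (genericPoint_specializes ξ)).trans (Nat.add_le_add_left ?_ _)
  obtain ⟨W, hξW, e, he⟩ := InvX.exists_frame hN ξ
  obtain ⟨U, hU, hξU, hUW⟩ := exists_isAffineOpen_mem_and_subset (x := ξ) (U := W) hξW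
  have he' := he.res (show U ≤ W from hUW)
  obtain ⟨g, hg⟩ := he'.exists_coord le_rfl (AModX.res N (le_top : U ≤ ⊤) (InvX.one t))
  rw [AModX.res_self] at hg
  have hZ : CohB1.genLocus N t ⊓ U = X.basicOpen g := InvX.genLocus_inf t he' hg
  let p := hU.primeIdealOf ⟨ξ, hξU⟩
  have hp : hU.fromSpec p = ξ := hU.fromSpec_primeIdealOf ⟨ξ, hξU⟩
  have hmem : ∀ q : PrimeSpectrum Γ(X, U), hU.fromSpec q ∈ CohB1.genLocus N t ↔ g ∉ q.asIdeal := fun q => by
    have hqU : hU.fromSpec q ∈ U := hU.range_fromSpec.le ⟨q, rfl⟩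
    rw [show hU.fromSpec q ∈ CohB1.genLocus N t ↔ hU.fromSpec q ∈ CohB1.genLocus N t ⊓ U from
      ⟨fun h => ⟨h, hqU⟩, fun h => h.1⟩, hZ]
    exact Set.ext_iff.1 (congrArg (fun V : (Spec Γ(X, U)).Opens => (V : Set (Spec Γ(X, U))))
      (hU.fromSpec_preimage_basicOpen g)) q
  have hmin : p.asIdeal ∈ (Ideal.span {g}).minimalPrimes := by
    refine ⟨⟨p.isPrime, (Ideal.span_singleton_le_iff_mem _).2 (not_not.1 fun h => hξ (hp ▸ (hmem p).2 h))⟩,
      fun q hq hqp => ?_⟩
    let q' : PrimeSpectrum Γ(X, U) := ⟨q, hq.1⟩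
    have hs : hU.fromSpec q' ⤳ ξ := by
      rw [← hp]
      exact ((PrimeSpectrum.le_iff_specializes q' p).1 hqp).map hU.fromSpec.continuous
    have he : hU.fromSpec q' = hU.fromSpec p :=
      (hmax _ hs fun h => (hmem q').1 h (hq.2 (Ideal.mem_span_singleton_self g))).trans hp.symm
    have : q' = p := hU.fromSpec.isOpenEmbedding.injective he
    exact (congrArg PrimeSpectrum.asIdeal this).ge
  haveI : IsNoetherianRing Γ(X, U) := IsLocallyNoetherian.component_noetherian ⟨U, hU⟩
  letI := X.presheaf.algebra_section_stalk ⟨ξ, hξU⟩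
  have h1 := Ideal.height_le_one_of_isPrincipal_of_mem_minimalPrimes _ _ hmin
  haveI : IsLocalization.AtPrime (X.presheaf.stalk ξ) p.asIdeal := hU.isLocalization_stalk ⟨ξ, hξU⟩
  rw [IsLocalization.AtPrime.ringKrullDim_eq_height p.asIdeal (X.presheaf.stalk ξ)] at hb
  have h2 : ((b : ℕ∞) : WithBot ℕ∞) ≤ ((1 : ℕ∞) : WithBot ℕ∞) := by
    rw [show ((b : ℕ∞) : WithBot ℕ∞) = (b : WithBot ℕ∞) from rfl, ← hb]
    exact WithBot.coe_le_coe.2 h1
  exact_mod_cast WithBot.coe_le_coe.1 h2

include k in
/-- A section vanishing somewhere, but not at the generic point, cuts out a set of codimension one. -/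
theorem dim_zeroSet [IsIntegral X] {d : ℕ} (hX : topologicalKrullDim X = ((d + 1 : ℕ) : WithBot ℕ∞))
    {N : X.Modules} (hN : PicF.IsInvertible N) (t : Coh.structureModule X ⟶ N)
    (hgen : genericPoint X ∈ CohB1.genLocus N t) {x : X} (hx : x ∉ CohB1.genLocus N t) :
    topologicalKrullDim ↥((CohB1.genLocus N t : Set X)ᶜ) = (d : WithBot ℕ∞) := by
  let f := X ↘ Spec (CommRingCat.of k)
  have hgd : VarDim.deg f (genericPoint X) = d + 1 := by
    have := (VarDim.topologicalKrullDim_eq_deg_genericPoint f).symm.trans hX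
    exact_mod_cast this
  let Z : Set X := (CohB1.genLocus N t : Set X)ᶜ
  have hZ : IsClosed Z := (CohB1.genLocus N t).isOpen.isClosed_compl
  have hub : ∀ z ∈ Z, VarDim.deg f z ≤ d := fun z hz => by
    have hne : z ≠ genericPoint X := fun h => hz (h ▸ hgen)
    have h : VarDim.deg f z < VarDim.deg f (genericPoint X) :=
      VarDim.deg_strictMono f (lt_iff_le_not_ge.2 ⟨genericPoint_specializes z,
        fun h => hne (Specializes.antisymm h (genericPoint_specializes z)).eq⟩)
    omega
  let T : Set ℕ := VarDim.deg f '' {η | η ⤳ x ∧ η ∈ Z}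
  have hTne : T.Nonempty := ⟨_, x, ⟨specializes_rfl, hx⟩, rfl⟩
  have hTb : BddAbove T := ⟨d, fun n ⟨η, hη, e⟩ => e ▸ hub η hη.2⟩
  obtain ⟨ξ, ⟨hξx, hξZ⟩, hξd⟩ := Nat.sSup_mem hTne hTb
  have hmax : ∀ η, η ⤳ ξ → η ∉ CohB1.genLocus N t → η = ξ := fun η hηξ hη => by
    have hle : VarDim.deg f η ≤ VarDim.deg f ξ := hξd ▸ le_csSup hTb ⟨η, ⟨hηξ.trans hξx, hη⟩, rfl⟩
    by_contra hne
    exact absurd (VarDim.deg_strictMono f (lt_iff_le_not_ge.2 ⟨hηξ, fun h => hne (hηξ.antisymm h).eq⟩))
      (not_lt_of_ge hle)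
  have hge : d ≤ VarDim.deg f ξ := by
    have := deg_le_succ k hN t hξZ hmax
    change VarDim.deg f (genericPoint X) ≤ VarDim.deg f ξ + 1 at this
    omega
  rw [VarDim.topologicalKrullDim_set_eq_iSup_deg f hZ]
  refine le_antisymm (iSup_le fun z => ?_) (le_iSup_of_le ⟨ξ, hξZ⟩ ?_)
  · exact_mod_cast hub z z.2
  · exact_mod_cast hge

/-- The intersection of `N` with the `d`-th power of `M`. -/
def e (d : ℕ) (M N : X.Modules) : ℤ :=
  mult k M d (CohB1.tensorMod (Coh.structureModule X) N) - mult k M d (Coh.structureModule X)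

variable {M : X.Modules}

theorem e_congr (hM : PicF.IsInvertible M) {d : ℕ} {N N' : X.Modules} (h : PicF.cl N = PicF.cl N') :
    e k d M N = e k d M N' := by
  haveI := CurveCohLib.isNoetherian_of_proper (k := k) (X := X)
  obtain ⟨i⟩ := PicMul.cl_eq_iff.1 h
  rw [e, e, show mult k M d (CohB1.tensorMod (Coh.structureModule X) N) =
    mult k M d (CohB1.tensorMod (Coh.structureModule X) N') from
      (additive_lead (additive_euler k) hM d).iso _ _ ⟨PicGrp.tensorModIso (Iso.refl _) i⟩]

theorem e_mul [IsIntegral X] (hM : PicF.IsInvertible M) {d : ℕ}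
    (hX : topologicalKrullDim X = ((d + 1 : ℕ) : WithBot ℕ∞)) {N N' P : X.Modules}
    (hN : PicF.IsInvertible N) (hN' : PicF.IsInvertible N') (h : PicF.cl P = PicF.cl N * PicF.cl N') :
    e k d M P = e k d M N + e k d M N' := by
  haveI := CurveCohLib.isNoetherian_of_proper (k := k) (X := X)
  rw [e_congr k hM (h : PicF.cl P = PicF.cl (CohB1.tensorMod N N'))]
  have hA := additive_lead (L := M) (additive_euler k) hM d
  have h0 := iterD_eq_zero (d + 2) (additive_euler k) (N' :: N :: List.replicate d M) (by simp)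
    (fun Q hQ => by
      rcases List.mem_cons.1 hQ with rfl | hQ
      · exact hN'
      rcases List.mem_cons.1 hQ with rfl | hQ
      · exact hN
      exact (List.eq_of_mem_replicate hQ) ▸ hM) (Coh.structureModule X) QCoh.isCoh_structureModule'
    (lt_of_le_of_lt ((topologicalKrullDim_subspace_le X _).trans hX.le) (by exact_mod_cast Nat.lt_succ_self _))
  change (mult k M d (CohB1.tensorMod (CohB1.tensorMod (Coh.structureModule X) N') N) -
      mult k M d (CohB1.tensorMod (Coh.structureModule X) N')) -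
    (mult k M d (CohB1.tensorMod (Coh.structureModule X) N) - mult k M d (Coh.structureModule X)) = 0 at h0
  have e1 : mult k M d (CohB1.tensorMod (CohB1.tensorMod (Coh.structureModule X) N') N) =
      mult k M d (CohB1.tensorMod (Coh.structureModule X) (CohB1.tensorMod N N')) :=
    hA.iso _ _ ⟨(PicMul.assoc _ _ _).some ≪≫ PicGrp.tensorModIso (Iso.refl _) (PicMul.comm _ _).some⟩
  rw [e, e, e]
  linear_combination h0 - e1

theorem e_one [IsIntegral X] (hM : PicF.IsInvertible M) {d : ℕ}
    (hX : topologicalKrullDim X = ((d + 1 : ℕ) : WithBot ℕ∞)) : e k d M (Coh.structureModule X) = 0 := by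
  have h := e_mul k hM hX (P := Coh.structureModule X) InvX.isInvertible_structureModule
    InvX.isInvertible_structureModule (one_mul (1 : PicF.Cl X)).symm
  omega

/-- A section vanishing somewhere, but not everywhere, has positive intersection with an ample class. -/
theorem e_pos [IsIntegral X] (hM : CohB1.IsAmple M) {d : ℕ}
    (hX : topologicalKrullDim X = ((d + 1 : ℕ) : WithBot ℕ∞)) {N : X.Modules} (hN : PicF.IsInvertible N)
    (t : Coh.structureModule X ⟶ N) (hgen : genericPoint X ∈ CohB1.genLocus N t) {x : X}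
    (hx : x ∉ CohB1.genLocus N t) : 0 < e k d M N := by
  haveI := CurveCohLib.isNoetherian_of_proper (k := k) (X := X)
  have hA := additive_lead (L := M) (additive_euler k) hM.1 d
  let F := Coh.structureModule X
  have hF : Coh.IsCoh F := QCoh.isCoh_structureModule'
  have hP : Coh.IsCoh (CohB1.tensorMod F N) := AmpleVan.isCoh_tensor hF (AmpleVan.isCoh_invertible hN)
  let f : F ⟶ CohB1.tensorMod F N := mulHom t F
  have hK := QCoh.isCoh_kernel hF hP f
  have hC := QCoh.isCoh_cokernel hF.1 hP f
  obtain ⟨hk, hc⟩ := Snapper.support_subset_compl (AVDegPoly.isoOn_mulHom t F)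
  have hK0 : IsZero (kernel f) := by
    by_contra h0
    have hs := QCoh.support_push_ideal (𝟙 X) (kernel.ι f) hK.1 h0
    have hmem : genericPoint X ∈ CohB1.support ((Coh.push (𝟙 X)).obj (kernel f)) := hs ▸ subset_closure rfl
    exact hk ((QCoh.support_iso ((Scheme.Modules.pushforwardId X).app (kernel f)) (QCoh.isQCoh_pushforward (𝟙 X) hK.1)).le hmem) hgen
  have hKm : mult k M d (kernel f) = 0 := hA.zero_of_isZero hK0
  have hm := AVDegPoly.additive_map hA hF hP f
  rw [show HilbPoly.lead M (Curv2.euler k X) d (kernel f) = 0 from hKm, add_zero] at hm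
  have hsupp : CohB1.support (cokernel f) = (CohB1.genLocus N t : Set X)ᶜ :=
    Set.Subset.antisymm hc fun y hy => mem_support_cokernel_mulHom hF hN t
      (show y ∈ CohB1.support (Coh.structureModule X) by rw [CohGabLib.support_structure]; trivial) hy
  have hd : topologicalKrullDim ↥(CohB1.support (cokernel f)) = (d : WithBot ℕ∞) := by
    rw [hsupp]; exact dim_zeroSet k hX hN t hgen hx
  have hpos := (mult_nonneg_and_pos k hM d _ hC hd.le).2 hd
  show 0 < mult k M d (CohB1.tensorMod F N) - mult k M d F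
  change mult k M d F + mult k M d (cokernel f) = mult k M d (CohB1.tensorMod F N) at hm
  omega

end Groth.Agent.AVHomForm
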